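import Cfsg.Agent.H674.XZ.Gal
import Cfsg.Agent.H633.Unique
import Cfsg.Agent.H245.DM.Count

/-!
# S4791 + S4927: groups with no element of order `p²` (helper608)

* `alm_of_no_sq` : if no element has order divisible by `p²`, all characters are almost `p`-rational;
* `mem0_iff` : if moreover the centralizer of a Sylow `p`-subgroup is a `p`-group, `X0` consists of all the irreducible
  characters of degree prime to `p`;
* `x0_eq_card`, `x0_eq_card_of_equiv` (along an isomorphism).
-/

set_option autoImplicit false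

open Cfsg

namespace Cfsg.Agent.H608.XZ

open Cfsg.Agent.H674.XZ

universe u v

variable {p : ℕ} {M : Ideal AlgInt} {G : Type u} [Group G] [Finite G]

/-- no element of order divisible by `p²`: all characters are almost `p`-rational -/
theorem alm_of_no_sq [hp : Fact p.Prime] (h : ∀ g : G, ¬ p ^ 2 ∣ orderOf g) {χ : G → ℂ} (hχ : IsCharacter G χ) :
    Alm p χ := by
  rw [alm_iff_fun hχ]
  intro u hu g
  have h1 := (mem_JJ (p := p) u).1 hu
  have h2 : orderOf g ∣ dd p G := by
    have h3 := gcd_dvd_dd hp.out G (h g)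
    rwa [Nat.gcd_eq_right (orderOf_dvd_natCard g)] at h3
  have h4 : g ^ ex u = g ^ 1 := pow_eq_pow_iff_modEq.2 (h1.of_dvd h2)
  rw [h4, pow_one]

/-- the members of `X0` are all the characters of degree prime to `p` -/
theorem mem0_iff [hp : Fact p.Prime] (hM : IsPModular p M) (P : Sylow p G)
    (hC : IsPGroup p (Subgroup.centralizer ((P : Subgroup G) : Set G))) (h : ∀ g : G, ¬ p ^ 2 ∣ orderOf g)
    (χ : IrrCharacter G) : Mem0 p M χ ↔ ¬ p ∣ charDegree (χ : G → ℂ) :=
  ⟨fun h1 => h1.2.1, fun h1 => ⟨H633.Unique.mem_of_centralizer hM P hC χ h1, h1,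
    alm_of_no_sq h (Blocks.Basic.irr_isCharacter χ.2)⟩⟩

theorem x0_eq_card [hp : Fact p.Prime] (hM : IsPModular p M) (P : Sylow p G)
    (hC : IsPGroup p (Subgroup.centralizer ((P : Subgroup G) : Set G))) (h : ∀ g : G, ¬ p ^ 2 ∣ orderOf g) :
    x0 p M G = Nat.card {χ : IrrCharacter G // ¬ p ∣ charDegree (χ : G → ℂ)} :=
  Nat.card_congr (Equiv.subtypeEquivRight fun χ => mem0_iff hM P hC h χ)

/-- along an isomorphism -/
theorem x0_eq_card_of_equiv [hp : Fact p.Prime] (hM : IsPModular p M) {H : Type v} [Group H] (e : H ≃* G)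
    (hC : ∀ P : Sylow p G, IsPGroup p (Subgroup.centralizer ((P : Subgroup G) : Set G)))
    (h : ∀ g : G, ¬ p ^ 2 ∣ orderOf g) :
    x0 p M H = Nat.card {χ : IrrCharacter G // ¬ p ∣ charDegree (χ : G → ℂ)} := by
  have : Finite H := Finite.of_equiv G e.symm.toEquiv
  obtain ⟨P⟩ : Nonempty (Sylow p H) := inferInstance
  let P' : Sylow p G := P.mapSurjective (f := e.toMonoidHom) e.surjective
  have h1 : IsPGroup p (Subgroup.centralizer ((P : Subgroup H) : Set H)) := by
    let f : Subgroup.centralizer ((P : Subgroup H) : Set H) →* Subgroup.centralizer ((P' : Subgroup G) : Set G) :=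
      { toFun := fun c => ⟨e c, by
          rw [Subgroup.mem_centralizer_iff]
          rintro _ ⟨x, hx, rfl⟩
          show e x * e c = e c * e x
          rw [← map_mul, ← map_mul, Subgroup.mem_centralizer_iff.1 c.2 x hx]⟩
        map_one' := Subtype.ext (map_one e)
        map_mul' := fun a b => Subtype.ext (map_mul e _ _) }
    refine (hC P').of_injective f fun a b hab => ?_
    exact Subtype.ext (e.injective (congrArg Subtype.val hab))
  have h2 : ∀ g : H, ¬ p ^ 2 ∣ orderOf g := by
    intro g hg
    refine h (e g) ?_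
    have h3 : orderOf (e g) = orderOf g := orderOf_injective e.toMonoidHom e.injective g
    rwa [h3]
  rw [x0_eq_card hM P h1 h2]
  exact Nat.card_congr ((H245.DM.irrCongr e).subtypeEquiv fun χ => by rw [H245.DM.charDegree_irrCongr])

end Cfsg.Agent.H608.XZ
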