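import Cfsg.Agent.H967.XZ.Chain

/-!
# Type `B_n`: the elements with both descent sets `{a, a + 1, …}` (helper608, for S4791, S4927)

* `Comb.main` : the signed permutations whose descent set and whose inverse's descent set is `{a, …, n - 1}`;
* `card_le` : there are at most `a + 1` elements `w` with `dL w = dR w = ge a`, `a < n`;
* `card_empty` : one element has no descents.
-/

set_option autoImplicit false
set_option linter.unusedSectionVars false
set_option linter.unusedVariables false

open Cfsg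

namespace Cfsg.Agent.H608.XZ

/-! ### combinatorics -/

namespace Comb

/-- the value of a signed index -/
def val (n : ℕ) (J : ℕ → ℕ) (s : ℕ → Bool) (i : ℕ) : ℤ := if s i then (n : ℤ) - J i else (J i : ℤ) - n

/-- decreasing up to `a`, then increasing, the last one negative -/
structure D (n a : ℕ) (J : ℕ → ℕ) (s : ℕ → Bool) : Prop where
  lt : ∀ i, i < n → J i < n
  dn : ∀ i, i < a → val n J s (i + 1) < val n J s i
  up : ∀ i, a ≤ i → i + 1 < n → val n J s i < val n J s (i + 1)
  lst : ∀ i, i + 1 = n → val n J s i < 0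

variable {n a : ℕ} {J J' : ℕ → ℕ} {s s' : ℕ → Bool}

theorem D.dn' (h : D n a J s) {i j : ℕ} (hij : i < j) (hj : j ≤ a) : val n J s j < val n J s i := by
  induction j with
  | zero => omega
  | succ j ih =>
    have h1 := h.dn j (by omega)
    rcases Nat.lt_or_ge i j with h2 | h2
    · exact h1.trans (ih h2 (by omega))
    · have : i = j := by omega
      rw [this]
      exact h1

theorem D.up' (h : D n a J s) {i j : ℕ} (hi : a ≤ i) (hij : i < j) (hj : j < n) : val n J s i < val n J s j := by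
  induction j with
  | zero => omega
  | succ j ih =>
    rcases Nat.lt_or_ge i j with h2 | h2
    · exact (ih h2 (by omega)).trans (h.up j (by omega) hj)
    · have : i = j := by omega
      rw [this]
      exact h.up j (by omega) hj

theorem val_neg (hJ : ∀ i, i < n → J i < n) {i : ℕ} (hi : i < n) : val n J s i < 0 ↔ s i = false := by
  unfold val
  have := hJ i hi
  cases h : s i
  · simp
    omega
  · simp
    omega

theorem D.neg (h : D n a J s) {i : ℕ} (hi : a ≤ i) (hin : i < n) : s i = false := by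
  rw [← val_neg h.lt hin]
  rcases Nat.lt_or_ge i (n - 1) with h1 | h1
  · exact (h.up' hi h1 (by omega)).trans (h.lst _ (by omega))
  · exact h.lst i (by omega)

theorem D.m1 (h : D n a J s) (ha : a < n) {i j : ℕ} (hij : i < j) (hj : j ≤ a) (hs : s j = true) : s i = true ∧ J i < J j := by
  have h1 := h.dn' hij hj
  have h2 := h.lt i (by omega)
  have h3 := h.lt j (by omega)
  unfold val at h1
  rw [hs] at h1
  cases h4 : s i
  · rw [h4] at h1
    simp at h1
    omega
  · rw [h4] at h1
    simp at h1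
    exact ⟨rfl, h1⟩

theorem D.m2 (h : D n a J s) (ha : a < n) {i j : ℕ} (hij : i < j) (hj : j ≤ a) (hs : s i = false) : s j = false ∧ J j < J i := by
  have h1 := h.dn' hij hj
  have h2 := h.lt i (by omega)
  have h3 := h.lt j (by omega)
  unfold val at h1
  rw [hs] at h1
  cases h4 : s j
  · rw [h4] at h1
    simp at h1
    exact ⟨rfl, h1⟩
  · rw [h4] at h1
    simp at h1
    omega

theorem D.m3 (h : D n a J s) {i j : ℕ} (hi : a ≤ i) (hij : i < j) (hj : j < n) : J i < J j := by
  have h1 := h.up' hi hij hj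
  have h2 := h.neg hi (by omega)
  have h3 := h.neg (show a ≤ j by omega) hj
  unfold val at h1
  rw [h2, h3] at h1
  simp at h1
  exact h1

/-- the number of positive positions -/
theorem D.exists_k (h : D n a J s) (ha : a < n) : ∃ k ≤ a, (∀ i < k, s i = true) ∧ (∀ i, k ≤ i → i < n → s i = false) ∧
    (∀ i, i < k → i ≤ J i) ∧ (∀ i j, k ≤ i → i < j → j ≤ a → J j < J i) := by
  classical
  have hex : ∃ i, s i = false := ⟨a, h.neg le_rfl ha⟩
  have hka : Nat.find hex ≤ a := Nat.find_min' hex (h.neg le_rfl ha)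
  have hk := Nat.find_spec hex
  have hmin : ∀ i < Nat.find hex, s i = true := fun i hi => by
    have := Nat.find_min hex hi
    rwa [Bool.not_eq_false] at this
  have hf : ∀ i, Nat.find hex ≤ i → i ≤ a → s i = false := fun i h1 h2 => by
    rcases Nat.lt_or_ge (Nat.find hex) i with h3 | h3
    · exact (h.m2 ha h3 h2 hk).1
    · have : i = Nat.find hex := by omega
      rw [this]
      exact hk
  refine ⟨Nat.find hex, hka, hmin, fun i h1 h2 => ?_, fun i hi => ?_, fun i j h1 h2 h3 => ?_⟩
  · rcases Nat.lt_or_ge i a with h3 | h3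
    · exact hf i h1 (by omega)
    · exact h.neg h3 h2
  · induction i with
    | zero => omega
    | succ i ih =>
      have h1 := ih (by omega)
      have h2 := (h.m1 ha (show i < i + 1 by omega) (by omega) (hmin _ hi)).2
      omega
  · exact (h.m2 ha h2 h3 (hf i h1 (by omega))).2

/-- **The signed permutations with both descent sets `{a, …, n - 1}`.** -/
theorem main (ha : a < n) (h : D n a J s) (h' : D n a J' s') (e1 : ∀ i, i < n → J' (J i) = i) (e1' : ∀ i, i < n → J (J' i) = i)
    (e2 : ∀ i, i < n → s' (J i) = s i) (e2' : ∀ i, i < n → s (J' i) = s' i) :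
    ∃ k ≤ a, (∀ i, i < k → J i = i ∧ s i = true) ∧ (∀ i, k ≤ i → i ≤ a → J i = k + a - i ∧ s i = false) ∧
      (∀ i, a < i → i < n → J i = i ∧ s i = false) := by
  obtain ⟨k, hka, hk1, hk2, hk3, hk4⟩ := h.exists_k ha
  obtain ⟨k', hka', hk1', hk2', hk3', hk4'⟩ := h'.exists_k ha
  -- the positive part
  have hlt : ∀ i, i < k → J i < k' := fun i hi => by
    by_contra hcon
    have h1 := hk2' (J i) (by omega) (h.lt i (by omega))
    rw [e2 i (by omega), hk1 i hi] at h1
    exact Bool.noConfusion h1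
  have hlt' : ∀ i, i < k' → J' i < k := fun i hi => by
    by_contra hcon
    have h1 := hk2 (J' i) (by omega) (h'.lt i (by omega))
    rw [e2' i (by omega), hk1' i hi] at h1
    exact Bool.noConfusion h1
  have hid : ∀ i, i < k → J i = i := fun i hi => by
    have h1 := hk3 i hi
    have h2 := hk3' (J i) (hlt i hi)
    rw [e1 i (by omega)] at h2
    omega
  have hid' : ∀ i, i < k' → J' i = i := fun i hi => by
    have h1 := hk3' i hi
    have h2 := hk3 (J' i) (hlt' i hi)
    rw [e1' i (by omega)] at h2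
    omega
  have hkk : k = k' := by
    rcases Nat.lt_trichotomy k k' with h1 | h1 | h1
    · exfalso
      have h2 := hlt' (k' - 1) (by omega)
      rw [hid' _ (by omega)] at h2
      omega
    · exact h1
    · exfalso
      have h2 := hlt (k - 1) (by omega)
      rw [hid _ (by omega)] at h2
      omega
  subst hkk
  have hge : ∀ i, k ≤ i → i < n → k ≤ J i := fun i h1 h2 => by
    by_contra hcon
    have h3 := hid' (J i) (by omega)
    rw [e1 i h2] at h3
    omega
  have hge' : ∀ i, k ≤ i → i < n → k ≤ J' i := fun i h1 h2 => by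
    by_contra hcon
    have h3 := hid (J' i) (by omega)
    rw [e1' i h2] at h3
    omega
  -- the vertex
  have hJa : J a = k := by
    have h1 : J (J' k) = k := e1' k (by omega)
    have h2 := hge' k le_rfl (by omega)
    have h3 := hge a hka ha
    have h4 := h'.lt k (by omega)
    rcases Nat.lt_trichotomy (J' k) a with h5 | h5 | h5
    · have h6 := hk4 (J' k) a h2 h5 le_rfl
      omega
    · rw [h5] at h1
      exact h1
    · have h6 := h.m3 le_rfl h5 h4
      omega
  have hJa' : J' a = k := by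
    have h1 : J' (J k) = k := e1 k (by omega)
    have h2 := hge k le_rfl (by omega)
    have h3 := hge' a hka ha
    have h4 := h.lt k (by omega)
    rcases Nat.lt_trichotomy (J k) a with h5 | h5 | h5
    · have h6 := hk4' (J k) a h2 h5 le_rfl
      omega
    · rw [h5] at h1
      exact h1
    · have h6 := h'.m3 le_rfl h5 h4
      omega
  have hJk : J k = a := by
    rw [← hJa']
    exact e1' a ha
  -- the middle
  have hup : ∀ d, k + d ≤ a → J (k + d) ≤ a - d := by
    intro d
    induction d with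
    | zero => intro _; rw [Nat.add_zero, hJk]; omega
    | succ d ih =>
      intro hd
      have h1 := ih (by omega)
      have h2 := hk4 (k + d) (k + (d + 1)) (by omega) (by omega) hd
      omega
  have hdn : ∀ d, k + d ≤ a → k + d ≤ J (a - d) := by
    intro d
    induction d with
    | zero => intro _; rw [Nat.sub_zero, hJa]; omega
    | succ d ih =>
      intro hd
      have h1 := ih (by omega)
      have h2 := hk4 (a - (d + 1)) (a - d) (by omega) (by omega) (by omega)
      omega
  have hmid : ∀ i, k ≤ i → i ≤ a → J i = k + a - i := fun i h1 h2 => by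
    have h3 := hup (i - k) (by omega)
    have h4 := hdn (a - i) (by omega)
    have e3 : k + (i - k) = i := by omega
    have e4 : a - (a - i) = i := by omega
    rw [e3] at h3
    rw [e4] at h4
    omega
  -- the same for the inverse
  have hmid' : ∀ i, k ≤ i → i ≤ a → J' i = k + a - i := fun i h1 h2 => by
    have h3 := e1 (k + a - i) (by omega)
    rw [hmid _ (by omega) (by omega)] at h3
    have e3 : k + a - (k + a - i) = i := by omega
    rw [e3] at h3
    exact h3
  have hgt : ∀ i, a < i → i < n → a < J i := fun i h1 h2 => by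
    by_contra hcon
    have h3 := hge i (by omega) h2
    have h4 := hmid' (J i) h3 (by omega)
    rw [e1 i h2] at h4
    omega
  have hgt' : ∀ i, a < i → i < n → a < J' i := fun i h1 h2 => by
    by_contra hcon
    have h3 := hge' i (by omega) h2
    have h4 := hmid (J' i) h3 (by omega)
    rw [e1' i h2] at h4
    omega
  have hle : ∀ i, a < i → i < n → i ≤ J i := by
    intro i
    induction i with
    | zero => intro h1; omega
    | succ i ih =>
      intro h1 h2
      rcases Nat.lt_or_ge a i with h3 | h3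
      · have h4 := ih h3 (by omega)
        have h5 := h.m3 (show a ≤ i by omega) (show i < i + 1 by omega) h2
        omega
      · have h4 := hgt _ h1 h2
        omega
  have hle' : ∀ i, a < i → i < n → i ≤ J' i := by
    intro i
    induction i with
    | zero => intro h1; omega
    | succ i ih =>
      intro h1 h2
      rcases Nat.lt_or_ge a i with h3 | h3
      · have h4 := ih h3 (by omega)
        have h5 := h'.m3 (show a ≤ i by omega) (show i < i + 1 by omega) h2
        omega
      · have h4 := hgt' _ h1 h2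
        omega
  refine ⟨k, hka, fun i hi => ⟨hid i hi, hk1 i hi⟩, fun i h1 h2 => ⟨hmid i h1 h2, hk2 i h1 (by omega)⟩,
    fun i h1 h2 => ⟨?_, hk2 i (by omega) h2⟩⟩
  have h3 := hle i h1 h2
  have h4 := hle' (J i) (hgt i h1 h2) (h.lt i h2)
  rw [e1 i h2] at h4
  omega

end Comb

/-! ### the Weyl group -/

open CoxeterSystem Cfsg.Agent.ChevalleyStructure.CoxeterGeom Cfsg.Agent.Tits.Roots Cfsg.Agent.Tits.Core
  Cfsg.Agent.Tits.Exchange Cfsg.Agent.Nodes.Reps Cfsg.Agent.Nodes.BNOf Cfsg.Agent.Nodes.StabComb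
  Cfsg.Agent.Nodes.Bruhat Cfsg.Agent.Nodes.OppDec Cfsg.Agent.Nodes.LeviDec Cfsg.Agent.Characters.Core
  Cfsg.Agent.H796.BR Cfsg.Agent.Nodes.TypeC Cfsg.Agent.H967.XZ

variable {n : ℕ} {W : Type*} [Group W] (cs : CoxeterSystem (CoxeterMatrix.B n) W)

/-- `w` and its inverse as signed permutations -/
structure Act (w : W) (σ τ : Fin n × Bool → Fin n × Bool) : Prop where
  ng1 : ∀ a, σ (ng a) = ng (σ a)
  ng2 : ∀ a, τ (ng a) = ng (τ a)
  l : ∀ a, τ (σ a) = a
  r : ∀ a, σ (τ a) = a
  act : ∀ x a b, ee x = wt a + wt b → ee (rep cs (isCartan n) w x) = wt (σ a) + wt (σ b)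
  act' : ∀ x a b, ee x = wt a + wt b → ee (rep cs (isCartan n) w⁻¹ x) = wt (τ a) + wt (τ b)

theorem exists_act (w : W) : ∃ σ τ, Act cs w σ τ := by
  obtain ⟨ω, rfl⟩ := cs.wordProd_surjective w
  induction ω with
  | nil =>
    refine ⟨id, id, fun _ => rfl, fun _ => rfl, fun _ => rfl, fun _ => rfl, fun x a b e => ?_, fun x a b e => ?_⟩
    · rw [wordProd_nil, map_one]; exact e
    · rw [wordProd_nil, inv_one, map_one]; exact e
  | cons i ω ih =>
    obtain ⟨σ, τ, h⟩ := ih
    refine ⟨fun a => sg i (σ a), fun a => τ (sg i a), fun a => ?_, fun a => ?_, fun a => ?_, fun a => ?_, fun x a b e => ?_,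
      fun x a b e => ?_⟩
    · show sg i (σ (ng a)) = ng (sg i (σ a))
      rw [h.ng1, sg_ng]
    · show τ (sg i (ng a)) = ng (τ (sg i a))
      rw [sg_ng, h.ng2]
    · show τ (sg i (sg i (σ a))) = a
      rw [sg_sg, h.l]
    · show sg i (σ (τ (sg i a))) = a
      rw [h.r, sg_sg]
    · rw [wordProd_cons, rep_mul_apply, rep_simple]
      exact ee_refl_of (h.act x a b e)
    · rw [wordProd_cons, mul_inv_rev, cs.inv_simple, rep_mul_apply, rep_simple]
      exact h.act' _ _ _ (ee_refl_of e)

variable {cs}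

theorem Act.inv {w : W} {σ τ : Fin n × Bool → Fin n × Bool} (h : Act cs w σ τ) : Act cs w⁻¹ τ σ :=
  ⟨h.ng2, h.ng1, h.r, h.l, h.act', by rw [inv_inv]; exact h.act⟩

/-- the value of a signed index -/
def vv (x : Fin n × Bool) : ℤ := if x.2 then (n : ℤ) - x.1 else (x.1 : ℤ) - n

theorem vv_ng (x : Fin n × Bool) : vv (ng x) = - vv x := by
  obtain ⟨i, s⟩ := x
  cases s <;> simp [vv, ng]

theorem vv_inj {x y : Fin n × Bool} (h : vv x = vv y) : x = y := by
  obtain ⟨i, s⟩ := x
  obtain ⟨j, t⟩ := y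
  have := i.2
  have := j.2
  cases s <;> cases t <;> simp [vv] at h
  · rw [Prod.mk.injEq]
    exact ⟨Fin.ext (by omega), rfl⟩
  · omega
  · omega
  · rw [Prod.mk.injEq]
    exact ⟨Fin.ext (by omega), rfl⟩

/-- the height -/
def lam (u : Fin n → ℤ) : ℤ := ∑ j, ((n : ℤ) - j) * u j

theorem lam_add (u v : Fin n → ℤ) : lam (u + v) = lam u + lam v := by
  unfold lam
  rw [← Finset.sum_add_distrib]
  exact Finset.sum_congr rfl fun j _ => by rw [Pi.add_apply]; ring

theorem lam_smul (c : ℤ) (u : Fin n → ℤ) : lam (c • u) = c * lam u := by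
  unfold lam
  rw [Finset.mul_sum]
  exact Finset.sum_congr rfl fun j _ => by rw [Pi.smul_apply, smul_eq_mul]; ring

theorem lam_sum {ι : Type*} (t : Finset ι) (u : ι → Fin n → ℤ) : lam (∑ i ∈ t, u i) = ∑ i ∈ t, lam (u i) := by
  unfold lam
  rw [Finset.sum_comm]
  refine Finset.sum_congr rfl fun j _ => ?_
  rw [Finset.sum_apply, Finset.mul_sum]

theorem lam_wt (a : Fin n × Bool) : lam (wt a) = vv a := by
  unfold lam
  rw [Finset.sum_eq_single a.1]
  · rw [wt_apply, if_pos rfl]
    unfold vv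
    split_ifs <;> ring
  · intro j _ hj
    rw [wt_apply, if_neg hj, mul_zero]
  · intro h
    exact absurd (Finset.mem_univ _) h

theorem lam_bt_pos (i : Fin n) : 0 < lam (bt i) := by
  rw [bt, lam_add, lam_wt, lam_wt]
  unfold nx vv
  have := i.2
  split_ifs <;> simp_all

theorem lam_ee (x : Fin n → ℤ) : lam (ee x) = ∑ k, x k * lam (bt k) := by
  unfold ee
  rw [lam_sum]
  exact Finset.sum_congr rfl fun k _ => lam_smul _ _

theorem lam_nonneg {x : Fin n → ℤ} (hx : 0 ≤ x) : 0 ≤ lam (ee x) := by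
  rw [lam_ee]
  exact Finset.sum_nonneg fun k _ => mul_nonneg (hx k) (lam_bt_pos k).le

theorem lam_neg {x : Fin n → ℤ} (hx : x ≤ 0) (hx0 : x ≠ 0) : lam (ee x) < 0 := by
  rw [lam_ee]
  have h1 : ∀ k ∈ (Finset.univ : Finset (Fin n)), x k * lam (bt k) ≤ 0 := fun k _ =>
    mul_nonpos_of_nonpos_of_nonneg (hx k) (lam_bt_pos k).le
  obtain ⟨k, hk⟩ : ∃ k, x k ≠ 0 := by
    by_contra hcon
    push Not at hcon
    exact hx0 (funext hcon)
  refine Finset.sum_neg' h1 ⟨k, Finset.mem_univ k, ?_⟩
  exact mul_neg_of_neg_of_pos (lt_of_le_of_ne (hx k) hk) (lam_bt_pos k)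

theorem mem_dR_iff {w : W} {σ τ : Fin n × Bool → Fin n × Bool} (h : Act cs w σ τ) (k : Fin n) :
    k ∈ dR cs w ↔ vv (σ (k, true)) + vv (σ (nx k)) < 0 := by
  have e : lam (ee (rep cs (isCartan n) w (sr k))) = vv (σ (k, true)) + vv (σ (nx k)) := by
    rw [h.act (sr k) (k, true) (nx k) (by rw [ee_sr]; rfl), lam_add, lam_wt, lam_wt]
  rw [← e]
  constructor
  · intro hk
    refine lam_neg (nonpos_of_lt cs (isCartan n) w k (mem_dR.1 hk)) fun h0 => ?_
    have h1 : rep cs (isCartan n) w⁻¹ (rep cs (isCartan n) w (sr k)) = sr k := by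
      rw [← rep_mul_apply, inv_mul_cancel, map_one]
      rfl
    rw [h0, map_zero] at h1
    have h2 := congrFun h1 k
    simp [sr] at h2
  · intro hlt
    by_contra hk
    have h1 : ¬ cs.length (w * cs.simple k) < cs.length w := fun h2 => hk (mem_dR.2 h2)
    have h2 := cs.length_mul_simple w k
    have h3 := lam_nonneg (nonneg_of_lt cs (isCartan n) w k (by omega))
    exact absurd hlt (not_lt.2 h3)

theorem mem_dR_lt {w : W} {σ τ : Fin n × Bool → Fin n × Bool} (h : Act cs w σ τ) (k : Fin n) (hk : (k : ℕ) + 1 < n) :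
    k ∈ dR cs w ↔ vv (σ (k, true)) < vv (σ (⟨k + 1, hk⟩, true)) := by
  rw [mem_dR_iff h]
  have e : nx k = ng (⟨(k : ℕ) + 1, hk⟩, true) := by
    unfold nx
    rw [dif_pos hk]
    rfl
  rw [e, h.ng1, vv_ng]
  omega

theorem mem_dR_last {w : W} {σ τ : Fin n × Bool → Fin n × Bool} (h : Act cs w σ τ) (k : Fin n) (hk : (k : ℕ) + 1 = n) :
    k ∈ dR cs w ↔ vv (σ (k, true)) < 0 := by
  rw [mem_dR_iff h]
  have e : nx k = (k, true) := by
    unfold nx
    rw [dif_neg (by omega)]
  rw [e]
  omega

/-- the absolute values -/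
def jn (σ : Fin n × Bool → Fin n × Bool) (i : ℕ) : ℕ := if h : i < n then ((σ (⟨i, h⟩, true)).1 : ℕ) else i

/-- the signs -/
def sn (σ : Fin n × Bool → Fin n × Bool) (i : ℕ) : Bool := if h : i < n then (σ (⟨i, h⟩, true)).2 else false

theorem val_eq (σ : Fin n × Bool → Fin n × Bool) (i : ℕ) (h : i < n) : Comb.val n (jn σ) (sn σ) i = vv (σ (⟨i, h⟩, true)) := by
  unfold Comb.val jn sn vv
  rw [dif_pos h, dif_pos h]

theorem Act.inj {w : W} {σ τ : Fin n × Bool → Fin n × Bool} (h : Act cs w σ τ) : Function.Injective σ := fun a b e => by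
  rw [← h.l a, ← h.l b, e]

theorem Act.D {w : W} {σ τ : Fin n × Bool → Fin n × Bool} (h : Act cs w σ τ) {a : ℕ} (hw : dR cs w = ge a) (ha : a < n) :
    Comb.D n a (jn σ) (sn σ) where
  lt i hi := by
    unfold jn
    rw [dif_pos hi]
    exact Fin.isLt _
  dn i hi := by
    rw [val_eq _ _ (show i < n by omega), val_eq _ _ (show i + 1 < n by omega)]
    have h1 : (⟨i, by omega⟩ : Fin n) ∉ dR cs w := by
      rw [hw, mem_ge]
      show ¬ a ≤ i
      omega
    rw [mem_dR_lt h _ (show i + 1 < n by omega), not_lt] at h1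
    refine lt_of_le_of_ne h1 fun e => ?_
    have h2 := h.inj (vv_inj e)
    have h3 := congrArg (fun x : Fin n × Bool => (x.1 : ℕ)) h2
    simp at h3
  up i hi hin := by
    rw [val_eq _ _ (show i < n by omega), val_eq _ _ hin]
    have h1 : (⟨i, by omega⟩ : Fin n) ∈ dR cs w := by
      rw [hw, mem_ge]
      exact hi
    exact (mem_dR_lt h _ hin).1 h1
  lst i hi := by
    rw [val_eq _ _ (show i < n by omega)]
    have h1 : (⟨i, by omega⟩ : Fin n) ∈ dR cs w := by
      rw [hw, mem_ge]
      show a ≤ i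
      omega
    exact (mem_dR_last h _ hi).1 h1

theorem Act.e {w : W} {σ τ : Fin n × Bool → Fin n × Bool} (h : Act cs w σ τ) (i : ℕ) (hi : i < n) :
    jn τ (jn σ i) = i ∧ sn τ (jn σ i) = sn σ i := by
  have h1 := h.l (⟨i, hi⟩, true)
  obtain ⟨j, hj, s, hσ⟩ : ∃ j, ∃ hj : j < n, ∃ s : Bool, σ (⟨i, hi⟩, true) = (⟨j, hj⟩, s) :=
    ⟨(σ (⟨i, hi⟩, true)).1, Fin.isLt _, (σ (⟨i, hi⟩, true)).2, rfl⟩
  rw [hσ] at h1
  have e1 : jn σ i = j := by
    unfold jn
    rw [dif_pos hi, hσ]
  have e2 : sn σ i = s := by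
    unfold sn
    rw [dif_pos hi, hσ]
  rw [e1, e2]
  unfold jn sn
  rw [dif_pos hj, dif_pos hj]
  cases s
  · have h2 : τ (⟨j, hj⟩, true) = (⟨i, hi⟩, false) := by
      have h3 := h.ng2 (⟨j, hj⟩, false)
      rw [h1] at h3
      exact h3
    rw [h2]
    exact ⟨rfl, rfl⟩
  · rw [h1]
    exact ⟨rfl, rfl⟩

/-- two elements with the same signed permutation -/
theorem Act.eq_of {w w' : W} {σ τ σ' τ' : Fin n × Bool → Fin n × Bool} (h : Act cs w σ τ) (h' : Act cs w' σ' τ')
    (hs : ∀ i : Fin n, σ (i, true) = σ' (i, true)) : w = w' := by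
  refine rep_injective cs (isCartan n) ?_
  refine LinearMap.ext fun x => ?_
  rw [rep_eq_sum, rep_eq_sum]
  refine Finset.sum_congr rfl fun k _ => ?_
  congr 1
  refine ee_injective ?_
  have hs2 : ∀ a : Fin n × Bool, σ a = σ' a := by
    rintro ⟨i, _ | _⟩
    · have h1 := h.ng1 (i, true)
      have h2 := h'.ng1 (i, true)
      rw [hs] at h1
      exact h1.trans h2.symm
    · exact hs i
  rw [h.act (sr k) (k, true) (nx k) (by rw [ee_sr]; rfl), h'.act (sr k) (k, true) (nx k) (by rw [ee_sr]; rfl), hs2, hs2]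

/-- **The count.** -/
theorem card_le [Finite W] {a : ℕ} (ha : a < n) :
    Nat.card {w : W // dL cs w = ge a ∧ dR cs w = ge a} ≤ a + 1 := by
  classical
  have key : ∀ w : {w : W // dL cs w = ge a ∧ dR cs w = ge a}, ∃ σ τ, Act cs w.1 σ τ ∧ ∃ k ≤ a,
      (∀ i, i < k → jn σ i = i ∧ sn σ i = true) ∧ (∀ i, k ≤ i → i ≤ a → jn σ i = k + a - i ∧ sn σ i = false) ∧
      (∀ i, a < i → i < n → jn σ i = i ∧ sn σ i = false) := by
    intro w
    obtain ⟨σ, τ, h⟩ := exists_act cs w.1
    refine ⟨σ, τ, h, ?_⟩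
    have hL : dR cs w.1⁻¹ = ge a := by rw [dR_inv]; exact w.2.1
    exact Comb.main ha (h.D w.2.2 ha) (h.inv.D hL ha) (fun i hi => (h.e i hi).1) (fun i hi => (h.inv.e i hi).1)
      (fun i hi => (h.e i hi).2) (fun i hi => (h.inv.e i hi).2)
  choose σ τ h1 k h2 h3 h4 h5 using key
  have hinj : Function.Injective fun w => (⟨k w, Nat.lt_succ_of_le (h2 w)⟩ : Fin (a + 1)) := by
    intro w w' e
    have ek : k w = k w' := congrArg Fin.val e
    refine Subtype.ext ((h1 w).eq_of (h1 w') fun i => ?_)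
    have e1 : jn (σ w) i = jn (σ w') i ∧ sn (σ w) i = sn (σ w') i := by
      rcases Nat.lt_or_ge i (k w) with h6 | h6
      · rw [(h3 w i h6).1, (h3 w i h6).2, (h3 w' i (ek ▸ h6)).1, (h3 w' i (ek ▸ h6)).2]
        exact ⟨rfl, rfl⟩
      · rcases Nat.lt_or_ge a i with h7 | h7
        · rw [(h5 w i h7 i.2).1, (h5 w i h7 i.2).2, (h5 w' i h7 i.2).1, (h5 w' i h7 i.2).2]
          exact ⟨rfl, rfl⟩
        · rw [(h4 w i h6 h7).1, (h4 w i h6 h7).2, (h4 w' i (ek ▸ h6) h7).1, (h4 w' i (ek ▸ h6) h7).2, ek]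
          exact ⟨rfl, rfl⟩
    obtain ⟨e2, e3⟩ := e1
    unfold jn at e2
    unfold sn at e3
    rw [dif_pos i.2, dif_pos i.2] at e2 e3
    exact Prod.ext (Fin.ext e2) e3
  have h6 := Nat.card_le_card_of_injective _ hinj
  rwa [Nat.card_eq_fintype_card (α := Fin (a + 1)), Fintype.card_fin] at h6

/-- no descents -/
theorem card_empty {I : Type*} [Fintype I] [DecidableEq I] {Mx : CoxeterMatrix I} {cs' : CoxeterSystem Mx W} :
    Nat.card {w : W // dL cs' w = ∅ ∧ dR cs' w = ∅} ≤ 1 := by
  have h1 : ∀ w : {w : W // dL cs' w = ∅ ∧ dR cs' w = ∅}, w.1 = 1 := by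
    intro w
    by_contra hw
    obtain ⟨i, hi⟩ := cs'.exists_leftDescent_of_ne_one hw
    have := mem_dL.2 hi
    rw [w.2.1] at this
    exact Finset.notMem_empty _ this
  have : Subsingleton {w : W // dL cs' w = ∅ ∧ dR cs' w = ∅} := ⟨fun a b => Subtype.ext ((h1 a).trans (h1 b).symm)⟩
  exact Finite.card_le_one_iff_subsingleton.2 this

end Cfsg.Agent.H608.XZ
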