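import Cfsg.Agent.H608.XZ.BDesc
import Cfsg.Agent.H967.XZ.AFam
import Cfsg.Agent.H674.XZ.CoreC
import Cfsg.Agent.H694.XZ.Sq
import Cfsg.Agent.H605.XZ.AL2
import Cfsg.Agent.H742.PanU
import Cfsg.Agent.H965.XZ.IdxB

/-!
# S4791 + S4927: type `B_5`, `p = 11`, the elliptic case; `PSU_11(q)`, `11 ∣ q + 1` (helper608)

* `mult_le` : the multiplicities of the members of `X0` in the rank-selected characters are at most `2`;
* `seven_le_x0` : a group with an RGD of type `B_5` such that `11` divides the index of all maximal parabolic subgroups has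
  at least `7` members of `X0`;
* `row0_B5` : `Row0 11 M S`;
* `row0_psu` : `S = PSU_11(q)`, `11 ∣ q + 1`.
-/

set_option autoImplicit false
set_option linter.unusedSectionVars false
set_option linter.unusedVariables false

open Cfsg

namespace Cfsg.Agent.H608.XZ.PSU11

open CoxeterSystem Cfsg.Agent.ChevalleyStructure.CoxeterGeom Cfsg.Agent.Tits.Roots Cfsg.Agent.Tits.Core
  Cfsg.Agent.Nodes.Reps Cfsg.Agent.Nodes.BNOf Cfsg.Agent.Nodes.StabComb Cfsg.Agent.Nodes.Comb
  Cfsg.Agent.Nodes.Bruhat Cfsg.Agent.Nodes.OppDec Cfsg.Agent.Nodes.LeviDec Cfsg.Agent.Characters.Core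
  Cfsg.Agent.H796.BR Cfsg.Agent.H145.BR Cfsg.Agent.H967.XZ Cfsg.Agent.H674.XZ Cfsg.Agent.H668.XZ
  Cfsg.Agent.KFacts.RgdAut Cfsg.Agent.KFacts.RgdDiag Cfsg.Agent.KFacts.RgdRigid
open scoped ComplexConjugate

universe u

/-- the square of a multiplicity is at most the norm -/
theorem sq_le {G : Type u} [Group G] [Finite G] {ψ : G → ℂ} (hψ : IsCharacter G ψ) {N k : ℕ} (hN : ip ψ ψ = N)
    {χ : IrrCharacter G} (hk : ip ψ (χ : G → ℂ) = k) : k * k ≤ N := by
  classical
  let : Fintype G := Fintype.ofFinite _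
  have hfin : Finite (IrrCharacter G) := finite_irr
  let : Fintype (IrrCharacter G) := Fintype.ofFinite _
  obtain ⟨b, hb⟩ := exists_nat_comb hψ
  have hbχ : ∀ ζ : IrrCharacter G, ip ψ (ζ : G → ℂ) = b ζ := by
    intro ζ
    rw [ip_eq, hb, classInner_sum_nsmul_irr]
  have e0 : ip ψ ψ = ((∑ ζ : IrrCharacter G, b ζ * b ζ : ℕ) : ℂ) := by
    rw [ip_eq]
    conv_lhs => arg 2; rw [hb]
    rw [classInner_sum_right]
    push_cast
    refine Finset.sum_congr rfl fun ζ _ => ?_
    rw [← Nat.cast_smul_eq_nsmul ℂ, classInner_smul_right, map_natCast, ← ip_eq, hbχ]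
  have e1 : N = ∑ ζ : IrrCharacter G, b ζ * b ζ := by
    have h1 := hN.symm.trans e0
    exact_mod_cast h1
  have e2 : k = b χ := by
    have h1 := hk.symm.trans (hbχ χ)
    exact_mod_cast h1
  rw [e1, e2]
  exact Finset.single_le_sum (f := fun ζ : IrrCharacter G => b ζ * b ζ) (fun _ _ => Nat.zero_le _) (Finset.mem_univ χ)

theorem zmod_sq : ∀ d : ZMod 11, (d = 1 ∨ d = -1 ∨ 2 * d = 1 ∨ 2 * d = -1) → d * d = 1 ∨ d * d = 3 := by decide

/-- the squares of the degrees -/
theorem sq_mod {m d c : ℤ} (hm : 0 ≤ m) (hm2 : m ≤ 2) (hc : c = 1 ∨ c = -1) (h : m * d ≡ c [ZMOD 11]) :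
    d * d % 11 = 1 ∨ d * d % 11 = 3 := by
  have h0 : ((m * d : ℤ) : ZMod 11) = ((c : ℤ) : ZMod 11) := (ZMod.intCast_eq_intCast_iff _ _ 11).2 h
  have h1 : (((d : ℤ) : ZMod 11)) * ((d : ℤ) : ZMod 11) = 1 ∨ (((d : ℤ) : ZMod 11)) * ((d : ℤ) : ZMod 11) = 3 := by
    apply zmod_sq
    have h2 : m = 0 ∨ m = 1 ∨ m = 2 := by omega
    rcases h2 with rfl | rfl | rfl
    · exfalso
      rw [zero_mul, Int.cast_zero] at h0
      rcases hc with rfl | rfl
      · exact absurd h0 (by decide)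
      · exact absurd h0 (by decide)
    · rw [one_mul] at h0
      rcases hc with rfl | rfl
      · left
        simpa using h0
      · right; left
        simpa using h0
    · rw [Int.cast_mul] at h0
      rcases hc with rfl | rfl
      · right; right; left
        simpa using h0
      · right; right; right
        simpa using h0
  rcases h1 with h1 | h1
  · left
    have h2 : ((d * d : ℤ) : ZMod 11) = ((1 : ℤ) : ZMod 11) := by
      rw [Int.cast_mul, h1, Int.cast_one]
    exact (ZMod.intCast_eq_intCast_iff _ _ 11).1 h2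
  · right
    have h2 : ((d * d : ℤ) : ZMod 11) = ((3 : ℤ) : ZMod 11) := by
      rw [Int.cast_mul, h1]
      rfl
    exact (ZMod.intCast_eq_intCast_iff _ _ 11).1 h2

theorem sum_mod (x : Fin 6 → ℤ) (hx : ∀ i, x i % 11 = 1 ∨ x i % 11 = 3) : ¬ (11 : ℤ) ∣ ∑ i, x i := by
  rw [Fin.sum_univ_six]
  have h0 := hx 0
  have h1 := hx 1
  have h2 := hx 2
  have h3 := hx 3
  have h4 := hx 4
  have h5 := hx 5
  omega

section core

variable {W : Type*} [Group W] [Finite W] {Y : Type u} [Group Y] [Finite Y]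
  {cs : CoxeterSystem (CoxeterMatrix.B 5) W} {C : Fin 5 → Fin 5 → ℤ} {h : IsCartan (CoxeterMatrix.B 5) C} {r : ℕ}
  {T : Subgroup Y} {n : Fin 5 → Y} {X : (Fin 5 → ℤ) → Subgroup Y} {M : Ideal AlgInt}

variable (R : RGD cs h r T n X)

include R in
/-- the multiplicities -/
theorem mult_le (hG : GG cs h T X = ⊤) {a : ℕ} (ha : a ≤ 5) {χ : IrrCharacter Y} {k : ℕ}
    (hk : ip (betaPJ cs h T X (ge a)) (χ : Y → ℂ) = k) : k ≤ 2 := by
  have := Fintype.ofFinite Y
  have h1 := sq_le (isCharacter_betaPJ R hG (ge a)) (N := Nat.card {w : W // dL cs w = ge a ∧ dR cs w = ge a})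
    (by rw [ip_eq, inner_betaPJ R hG]) hk
  have h2 : Nat.card {w : W // dL cs w = ge a ∧ dR cs w = ge a} ≤ 5 := by
    rcases Nat.lt_or_ge a 5 with h3 | h3
    · have h4 := card_le (cs := cs) h3
      omega
    · have h4 := card_empty (cs' := cs)
      rw [← ge_eq_empty h3] at h4
      omega
  nlinarith

include R in
/-- **Seven members of `X0`**, six of them constituents of the permutation character. -/
theorem seven_le_x0 [hp : Fact (Nat.Prime 11)] (hG : GG cs h T X = ⊤) (hM : IsPModular 11 M)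
    (hd : ∀ k : Fin 5, 11 ∣ (PJ cs h T X ({k}ᶜ : Set (Fin 5))).index) :
    6 < x0 11 M Y ∧ ∃ χ : Fin 6 → IrrCharacter Y, Function.Injective χ ∧ ∀ i, Mem0 11 M (χ i) ∧
      ip (permC Y (Y ⧸ RGD.B cs h T X)) (χ i : Y → ℂ) ≠ 0 := by
  classical
  have hF : ∀ a : Fin 6, FV 11 M (betaPJ cs h T X (ge (a : ℕ))) ((-1) ^ (ge (m := 5) (a : ℕ)).card) := fun a =>
    FV_elliptic R hG hM (ge (a : ℕ)) fun k _ => hd k
  have hc : ∀ a : Fin 6, ((-1 : ℤ) ^ (ge (m := 5) (a : ℕ)).card = 1 ∨ (-1 : ℤ) ^ (ge (m := 5) (a : ℕ)).card = -1) :=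
    fun a => neg_one_pow_eq_or ℤ _
  have hc' : ∀ a : Fin 6, ¬ (((11 : ℕ) : ℤ) ∣ (-1 : ℤ) ^ (ge (m := 5) (a : ℕ)).card) := fun a => by
    rcases hc a with e | e <;> rw [e] <;> norm_num
  choose χ h1 h2 using fun a : Fin 6 => (hF a).exists_mem0 (hc' a)
  have hdis : ∀ a b : Fin 6, a ≠ b → ip (betaPJ cs h T X (ge (a : ℕ))) (χ b : Y → ℂ) = 0 := by
    intro a b hab
    have ha := a.2
    have hb := b.2
    rcases beta_disj R hG (show (a : ℕ) ≤ 5 by omega) (show (b : ℕ) ≤ 5 by omega) (fun e => hab (Fin.ext e)) (χ b) with h3 | h3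
    · exact h3
    · exact absurd h3 (h2 b)
  have hinj : Function.Injective χ := by
    intro a b hab
    by_contra hne
    apply h2 a
    rw [hab]
    exact hdis a b hne
  refine ⟨?_, χ, hinj, fun i => ⟨h1 i, perm_ne_zero R hG (h2 i)⟩⟩
  by_contra hcon
  have hfin := finite_mem0 (p := 11) (M := M) (G := Y)
  have hfin' : Finite (IrrCharacter Y) := finite_irr
  let ft : Fintype (IrrCharacter Y) := Fintype.ofFinite _
  let f : Fin 6 → {χ : IrrCharacter Y // Mem0 11 M χ} := fun i => ⟨χ i, h1 i⟩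
  have hf : Function.Injective f := fun i j h => hinj (congrArg Subtype.val h)
  have hle : Nat.card (Fin 6) ≤ x0 11 M Y := Nat.card_le_card_of_injective f hf
  rw [Nat.card_eq_fintype_card, Fintype.card_fin] at hle
  have heq : x0 11 M Y = 6 := by omega
  have hb : Function.Bijective f := by
    rw [Nat.bijective_iff_injective_and_card]
    exact ⟨hf, by rw [Nat.card_eq_fintype_card, Fintype.card_fin]; exact heq.symm⟩
  have hdeg : ∀ a : Fin 6, ((charDegree (χ a : Y → ℂ) : ℤ) * charDegree (χ a : Y → ℂ)) % 11 = 1 ∨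
      ((charDegree (χ a : Y → ℂ) : ℤ) * charDegree (χ a : Y → ℂ)) % 11 = 3 := by
    intro a
    have hchar := isCharacter_betaPJ R hG (ge (m := 5) (a : ℕ))
    choose m hm using fun ζ : IrrCharacter Y => ip_nat hchar (isIrr_isCharacter ζ.2)
    have h3 := (hF a).sum_mem0 (m := fun ζ => (m ζ : ℤ)) (fun ζ => by rw [hm, Int.cast_natCast])
    have h4 : xsum 11 M (fun ζ : IrrCharacter Y => (m ζ : ℤ)) = (m (χ a) : ℤ) * charDegree (χ a : Y → ℂ) := by
      unfold xsum
      rw [Finset.sum_eq_single (χ a)]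
      · rw [if_pos (h1 a)]
      · intro ζ _ hne
        split_ifs with h5
        · obtain ⟨b, hb'⟩ := hb.2 ⟨ζ, h5⟩
          have h6 : χ b = ζ := congrArg Subtype.val hb'
          have h7 : m ζ = 0 := by
            have h8 := hdis a b (fun e => hne (by rw [← h6, e]))
            rw [h6, hm] at h8
            exact_mod_cast h8
          show ((m ζ : ℕ) : ℤ) * _ = 0
          rw [h7, Nat.cast_zero, zero_mul]
        · rfl
      · intro h5
        exact absurd (Finset.mem_univ _) h5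
    rw [h4] at h3
    have h5 := mult_le R hG (show (a : ℕ) ≤ 5 by have := a.2; omega) (hm (χ a))
    exact sq_mod (Int.natCast_nonneg _) (by exact_mod_cast h5) (hc a) h3
  have h3 := H694.XZ.lt_x0 hM (ι := Fin 6) ((hd 0).trans (Subgroup.index_dvd_card _)) χ hinj h1
    (sum_mod _ hdeg)
  rw [Fintype.card_fin] at h3
  exact hcon h3

end core

/-- invariant members of `X0` and one more member -/
theorem lt_kap0 {A : Type u} [Group A] [Finite A] (T : Subgroup A) [T.Normal] {p : ℕ} {M : Ideal AlgInt} {N : ℕ}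
    (χ : Fin N → IrrCharacter T) (hinj : Function.Injective χ) (hmem : ∀ i, Mem0 p M (χ i))
    (hinv : ∀ i (a : A) (t : T), (χ i : T → ℂ) (MulAut.conjNormal a t) = (χ i : T → ℂ) t) (hx : N < x0 p M T) :
    N < kap0 p M T := by
  classical
  have hfin := finite_mem0 (p := p) (M := M) (G := T)
  obtain ⟨ψ, hψ⟩ : ∃ ψ : {χ : IrrCharacter T // Mem0 p M χ}, ∀ i, χ i ≠ ψ.1 := by
    by_contra hcon
    push Not at hcon
    choose g hg using hcon
    have h1 : Function.Injective g := fun ψ ψ' e => Subtype.ext (by rw [← hg, ← hg, e])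
    have h2 := Nat.card_le_card_of_injective g h1
    rw [Nat.card_eq_fintype_card (α := Fin N), Fintype.card_fin] at h2
    exact absurd hx (not_lt.2 h2)
  have : Finite (Quotient (orbSetoid0 p M T)) := Quotient.finite _
  let F : Option (Fin N) → Quotient (orbSetoid0 p M T) := fun o => o.elim (Quotient.mk _ ψ) fun i => Quotient.mk _ ⟨χ i, hmem i⟩
  have hone : ∀ (i : Fin N) (φ : {χ : IrrCharacter T // Mem0 p M χ}),
      (orbSetoid0 p M T).r ⟨χ i, hmem i⟩ φ → χ i = φ.1 := by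
    rintro i φ ⟨a, ha⟩
    refine Subtype.ext (funext fun t => ?_)
    rw [ha t]
    exact (hinv i a t).symm
  have hF : Function.Injective F := by
    rintro (_ | i) (_ | j) e
    · rfl
    · exact absurd (hone j ψ (Quotient.exact e.symm)) (hψ j)
    · exact absurd (hone i ψ (Quotient.exact e)) (hψ i)
    · exact congrArg some (hinj (hone i ⟨χ j, hmem j⟩ (Quotient.exact e)))
  have h1 := Nat.card_le_card_of_injective F hF
  rw [Nat.card_eq_fintype_card (α := Option (Fin N)), Fintype.card_option, Fintype.card_fin] at h1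
  exact h1

/-- **Type `B_5`, `p = 11`, the elliptic case.** -/
theorem row0_B5 [hp : Fact (Nat.Prime 11)] {S : Type u} [Group S] [Finite S] {W : Type*} [Group W] [Finite W]
    {cs : CoxeterSystem (CoxeterMatrix.B 5) W} {C : Fin 5 → Fin 5 → ℤ} {h : IsCartan (CoxeterMatrix.B 5) C} {r : ℕ}
    [hr : Fact r.Prime] {T : Subgroup S} {n : Fin 5 → S} {X : (Fin 5 → ℤ) → Subgroup S} {M : Ideal AlgInt}
    (R : RGD cs h r T n X) (hG1 : RGD.Sup X {x | IsRoot cs h x} = ⊤) (hM : IsPModular 11 M)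
    (hd : ∀ k : Fin 5, 11 ∣ (PJ cs h T X ({k}ᶜ : Set (Fin 5))).index) : Row0 11 M S := by
  have hG := GG_eq_top (T := T) hG1
  obtain ⟨hx, χ, hinj, hχ⟩ := seven_le_x0 R hG hM hd
  refine row0_of_kap0 hM ((hd 0).trans (Subgroup.index_dvd_card _)) fun A _ _ T' _ e hcen hcop => ?_
  have hr' : (T'.subtype.comp e.toMonoidHom).range = T' := by
    ext x
    rw [MonoidHom.mem_range]
    constructor
    · rintro ⟨s, rfl⟩
      exact (e s).2
    · intro hx'
      exact ⟨e.symm ⟨x, hx'⟩, by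
        show ((e (e.symm ⟨x, hx'⟩) : T') : A) = x
        rw [e.apply_symm_apply]⟩
  have hf : Function.Injective (T'.subtype.comp e.toMonoidHom) := fun x y hxy => e.injective (Subtype.ext hxy)
  obtain ⟨Y₀, D⟩ := exists_Dc_B R hG1 (by norm_num) (T'.subtype.comp e.toMonoidHom) hf (by rw [hr']; infer_instance)
  have hinv := fun i => H605.XZ.inv_of_const' T' e (by
    have := D.sup
    rwa [hr'] at this) D.comap (fun s y hy => D.dc s y hy) (χ i) (hχ i).2
  have hx' : 6 < x0 11 M ↥T' := by rwa [← x0_congr e]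
  have h1 := lt_kap0 T' (fun i => (⟨fun t => (χ i : S → ℂ) (e.symm t),
    isIrr_comp e.symm.toMonoidHom e.symm.surjective (χ i).2⟩ : IrrCharacter T')) (fun i j hij => hinj (Subtype.ext (funext fun s => by
      have h2 := congrFun (congrArg Subtype.val hij) (e s)
      simp only [e.symm_apply_apply] at h2
      exact h2))) (fun i => mem0_comp e.symm (hχ i).1) (fun i a t => hinv i a t) hx'
  have h2 : 7 ^ 2 ≤ kap0 11 M T' ^ 2 := Nat.pow_le_pow_left h1 2
  omega

/-- **`PSU_11(q)`, `11 ∣ q + 1`** -/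
theorem row0_psu [hp : Fact (Nat.Prime 11)] {M : Ideal AlgInt} (hM : IsPModular 11 M) {r : ℕ} [Fact r.Prime] {S : Type u}
    [Group S] [Finite S] {F : Type*} [Field F] [Fintype F] [CharP F r] {q : ℕ} (hF : Fintype.card F = q ^ 2)
    (hq : 11 ∣ q + 1) (e : Nonempty (S ≃* PSU 11 F q)) : Row0 11 M S := by
  obtain ⟨e⟩ := e
  obtain ⟨C, h, T, n, X, hW, R, hX, -, -, hc⟩ := (H742.pan_psu_odd hF (m := 5) (by norm_num) (p := r)).of_equiv e.symm
  have hG1 : RGD.Sup X {x | IsRoot (CoxeterMatrix.B 5).toCoxeterSystem h x} = ⊤ := hX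
  have hG := GG_eq_top (T := T) hG1
  have ho : orderOf (-(q : ZMod 11)) = 1 := by
    rw [orderOf_eq_one_iff, neg_eq_iff_eq_neg, eq_neg_iff_add_eq_zero]
    have := (ZMod.natCast_eq_zero_iff (q + 1) 11).2 hq
    push_cast at this
    exact this
  obtain ⟨h1, h2, h3⟩ := H965.XZ.wit_su_odd (p := 11) (m := 5) ho odd_one (by norm_num) (by norm_num)
  refine row0_B5 R hG1 hM fun k => ?_
  refine H965.XZ.dvd_index_B_all R hG (y := q ^ 2) (z := q ^ 3) (fun i hi => ?_) (fun i hi => ?_) h1 h2 h3 (j := k) ?_ (by simp)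
  · exact (hc i).trans (if_pos hi)
  · exact (hc i).trans (if_neg (by omega))
  · rw [Nat.mod_one]
    exact Nat.zero_le _

end Cfsg.Agent.H608.XZ.PSU11
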